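import Cfsg.Agent.Lib.E7Two.Stab
import Cfsg.Agent.Lib.Chevalley.TorusCentralizer
import Cfsg.Agent.Lib.Chevalley.TwistedTorusCentralizer
import Cfsg.Agent.Lib.Chevalley.OrderE7
import Mathlib.RingTheory.RootsOfUnity.PrimitiveRoots

/-!
Over a field of characteristic two with a thirteenth root of unity, the centraliser of the torus element of order
thirteen has index prime to five over the torus when five divides the order of the multiplicative group.
-/

set_option autoImplicit false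
set_option linter.unusedSectionVars false
set_option maxRecDepth 100000

open Matrix Cfsg.Lie CfsgLib.Chevalley

namespace CfsgLib.E7Two

variable {K : Type*} [Field K]

/-- An element of prime order is conjugate into a subgroup of index prime to it. -/
theorem exists_conj_mem {H : Type*} [Group H] [Finite H] {r : ℕ} (hr : r.Prime) (X : Subgroup H)
    (hX : ¬ r ∣ X.index) {y : H} (hy : y ^ r = 1) : ∃ c : H, c * y * c⁻¹ ∈ X := by
  haveI := Fact.mk hr
  have hP : IsPGroup r (Subgroup.zpowers y) := by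
    obtain ⟨j, -, hj⟩ := (Nat.dvd_prime_pow hr).1 (show orderOf y ∣ r ^ 1 by
      rw [pow_one]; exact orderOf_dvd_of_pow_eq_one hy)
    exact IsPGroup.of_card (by rw [Nat.card_zpowers, hj])
  obtain ⟨a, ha⟩ := hP.nonempty_fixed_point_of_prime_not_dvd_card (H ⧸ X) hX
  induction a using QuotientGroup.induction_on with
  | H c =>
    refine ⟨c⁻¹, ?_⟩
    have e := ha ⟨y, Subgroup.mem_zpowers y⟩
    change ((y * c : H) : H ⧸ X) = (c : H ⧸ X) at e
    rw [eq_comm, QuotientGroup.eq] at e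
    rw [inv_inv, mul_assoc]
    exact e

/-- The torus element of order thirteen. -/
def c₀ (ζ : Kˣ) : Fin chevE7.rank → Kˣ := fun k => ζ ^ aExp.getD (k : ℕ) 0

theorem chi_c₀ {ζ : Kˣ} (hζ : ζ ^ 13 = 1) (s : Fin chevE7.nroots) :
    chi chevE7 s (c₀ ζ) = ζ ^ valT.getD (s : ℕ) 0 := by
  show (∏ k : Fin 7, (ζ ^ aExp.getD (k : ℕ) 0) ^ chevE7.cartan k s) = _
  simp only [← zpow_natCast, ← _root_.zpow_mul]
  have key : ∀ (S : Finset (Fin 7)) (f : Fin 7 → ℤ), ∏ k ∈ S, ζ ^ f k = ζ ^ ∑ k ∈ S, f k := by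
    intro S f
    induction S using Finset.induction_on with
    | empty => simp
    | insert a S ha ih => rw [Finset.prod_insert ha, Finset.sum_insert ha, ih, _root_.zpow_add]
  rw [key, ← val_spec.2 s]
  set m := ∑ k : Fin 7, ((aExp.getD (k : ℕ) 0 : ℕ) : ℤ) * chevE7.cartan k s
  conv_lhs => rw [← Int.emod_add_mul_ediv m 13]
  rw [_root_.zpow_add, _root_.zpow_mul, show ((13 : ℤ)) = ((13 : ℕ) : ℤ) from rfl, zpow_natCast ζ 13, hζ,
    _root_.one_zpow, mul_one]

theorem val_lt (s : Fin chevE7.nroots) : valT.getD (s : ℕ) 0 < 13 := by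
  have h : ∀ t : Fin 126, valT.getD (t : ℕ) 0 < 13 := by decide +kernel
  exact h s

theorem val_eq_of_chi {ζ : Kˣ} (hζ : IsPrimitiveRoot ζ 13) {s u : Fin chevE7.nroots}
    (h : chi chevE7 s (c₀ ζ) = chi chevE7 u (c₀ ζ)) : valT.getD (s : ℕ) 0 = valT.getD (u : ℕ) 0 := by
  rw [chi_c₀ hζ.pow_eq_one, chi_c₀ hζ.pow_eq_one] at h
  exact hζ.pow_inj (val_lt s) (val_lt u) h

/-- An element commuting with a torus element in a group of root subgroups lives on the trivial roots. -/
theorem mem_rootsU_of_commute_closed {D : ChevalleyDatum} {A : Aux} (h : Full D A) {c : Fin D.rank → Kˣ}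
    {L : List ℕ} (hs : L.Pairwise (· < ·)) (hcl : IsClosedRoots D {r | r ∈ L}) {u : GL D.Idx K}
    (hu : u ∈ rootsU D K {r | r ∈ L}) (hc : Commute (torusHom D K c) u) :
    u ∈ rootsU D K {r | r ∈ L ∧ chi D r c = 1} := by
  obtain ⟨t, -, rfl⟩ := exists_prodU h.toStd hs hcl hu
  have hlt : ∀ r ∈ L, r < D.nroots := fun r hr => (hcl.pos r hr).1
  have e := torus_conj_prodU h c t L hlt
  rw [hc.eq, mul_inv_cancel_right] at e
  have hcoef := prodU_injOn h.toStd hs hcl e
  refine Subgroup.list_prod_mem _ fun x hx => ?_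
  obtain ⟨r, hr, rfl⟩ := List.mem_map.1 hx
  by_cases hr1 : chi D r c = 1
  · exact xG_mem_rootsU h.cert (S := {r | r ∈ L ∧ chi D r c = 1}) ⟨hr, hr1⟩ _
  · have h0 : t r = 0 := by
      by_contra h0
      refine hr1 (Units.ext ?_)
      have := hcoef r hr
      rw [Units.val_one]
      exact mul_right_cancel₀ h0 (by rw [one_mul]; exact this.symm)
    rw [h0, xG_zero]
    exact one_mem _

theorem commute_of_mem_rootsU {D : ChevalleyDatum} {A : Aux} (h : Full D A) {c : Fin D.rank → Kˣ}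
    {S : Set ℕ} (hS : ∀ r ∈ S, r < D.nroots ∧ chi D r c = 1) {u : GL D.Idx K} (hu : u ∈ rootsU D K S) :
    Commute (torusHom D K c) u := by
  induction hu using rootsU_induction h.cert with
  | h1 => exact Commute.one_right _
  | hx r hr t =>
    have e := (acts_torus h.cert c).conj ⟨r, (hS r hr).1⟩ t
    simp only [Equiv.Perm.one_apply, (hS r hr).2, Units.val_one, one_mul] at e
    exact (mul_inv_eq_iff_eq_mul.1 e)
  | hmul x y _ _ hx hy => exact hx.mul_right hy

theorem isClosed_sub {L : List ℕ} (hL : ∀ r ∈ L, r ∈ zeroPos) : IsClosedRoots chevE7 {r | r ∈ L} := by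
  refine ⟨fun r hr => ?_, fun r hr s hs hne c hc => ?_⟩
  · have h : ∀ z ∈ zeroPos, 63 ≤ z ∧ z < 126 := by decide +kernel
    exact posE7.isPos_iff.2 (h r (hL r hr))
  · rw [zeroPos_spec.2.2 r (hL r hr) s (hL s hs) hne] at hc
    exact absurd hc List.not_mem_nil

theorem stab_mem (k : Fin 8) : stabData.getD (k : ℕ) ([], []) ∈ stabData := by
  rw [List.getD_eq_getElem _ _ (show (k : ℕ) < stabData.length from k.isLt)]
  exact List.getElem_mem _

/-- The Weyl element of a centralising cell. -/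
abbrev sw (k : Fin 8) : List (Fin chevE7.rank) := (stabData.getD (k : ℕ) ([], [])).1

/-- The roots of a centralising cell. -/
abbrev sl (k : Fin 8) : List ℕ := (stabData.getD (k : ℕ) ([], [])).2

theorem sl_subset_invSet (k : Fin 8) : {r | r ∈ sl k} ⊆ invSet chevE7 (wPerm cert_E7 (sw k)) := by
  intro r hr
  obtain ⟨-, hsub, hiff⟩ := stab_inv _ (stab_mem k)
  have hp := (isClosed_sub fun r hr => hr).pos r (hsub r hr)
  exact ⟨hp, ⟨r, hp.1⟩, rfl, posE7.isNeg_iff.2 ((hiff ⟨r, hp.1⟩ (hsub r hr)).1 hr)⟩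

theorem even_card [Fintype K] [CharP K 2] : (Fintype.card K - 1).gcd 2 = 1 := by
  obtain ⟨n, -, hn⟩ := FiniteField.card K 2
  have h1 : 2 ∣ Fintype.card K := by rw [hn]; exact dvd_pow_self 2 n.ne_zero
  have h2 : 0 < Fintype.card K := Fintype.card_pos
  exact (Nat.prime_two.coprime_iff_not_dvd.2 (by omega)).symm.gcd_eq_one

theorem card_diagonal_two [Fintype K] [CharP K 2] :
    Nat.card (chevE7.diagonalSubgroup K) = (Fintype.card K - 1) ^ 7 := by
  have h := card_diagonalE7 (F := K)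
  rwa [even_card, one_mul] at h

variable [Fintype K] [CharP K 2]

variable (K) in
/-- The torus inside the group. -/
def torG : Subgroup ↥(chevE7.group K) := (chevE7.diagonalSubgroup K).subgroupOf (chevE7.group K)

theorem card_torG : Nat.card (torG K) = (Fintype.card K - 1) ^ 7 := by
  rw [torG, Nat.card_congr (Subgroup.subgroupOfEquivOfLe (diagonal_le_group cert_E7)).toEquiv, card_diagonal_two]

theorem mem_torG {g : ↥(chevE7.group K)} (hg : g ∈ torG K) :
    ∃ c : Fin chevE7.rank → Kˣ, torusHom chevE7 K c = (g : GL chevE7.Idx K) := by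
  rw [torG, Subgroup.mem_subgroupOf, diagonalSubgroup_eq_range fullE7] at hg
  exact hg

/-- The centraliser of the torus element of order thirteen. -/
def cenT (ζ : Kˣ) : Subgroup ↥(chevE7.group K) :=
  (Subgroup.centralizer {torusHom chevE7 K (c₀ ζ)}).subgroupOf (chevE7.group K)

theorem mem_cenT {ζ : Kˣ} {g : ↥(chevE7.group K)} :
    g ∈ cenT ζ ↔ Commute (torusHom chevE7 K (c₀ ζ)) (g : GL chevE7.Idx K) := by
  rw [cenT, Subgroup.mem_subgroupOf, Subgroup.mem_centralizer_singleton_iff]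
  exact ⟨Eq.symm, Eq.symm⟩

theorem torG_le_cenT (ζ : Kˣ) : torG K ≤ cenT ζ := by
  intro g hg
  obtain ⟨c, hc⟩ := mem_torG hg
  rw [mem_cenT, ← hc]
  exact (Commute.all (c₀ ζ) c).map _

theorem card_cenT {ζ : Kˣ} (hζ : IsPrimitiveRoot ζ 13) :
    Nat.card (cenT ζ) = Fintype.card K ^ 3 * (Fintype.card K - 1) ^ 7 * (1 + Fintype.card K) ^ 3 := by
  classical
  set q := Fintype.card K
  have hact : ∀ (k : Fin 8), ∀ t ∈ chevE7.diagonalSubgroup K,
      ∃ η, Acts cert_E7 (nW cert_E7 K (sw k) * t) (wPerm cert_E7 (sw k)) η := by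
    intro k t ht
    rw [diagonalSubgroup_eq_range fullE7] at ht
    obtain ⟨c, rfl⟩ := ht
    obtain ⟨η, hη⟩ := acts_nW (F := K) fullE7 (sw k)
    have h1 := hη.mul (acts_torus cert_E7 c)
    rw [mul_one] at h1
    exact ⟨_, h1⟩
  have hZ : ∀ r ∈ {r | r ∈ zeroPos}, r < chevE7.nroots ∧ chi chevE7 r (c₀ ζ) = 1 := by
    intro r hr
    have hp := (isClosed_sub fun r hr => hr).pos r hr
    refine ⟨hp.1, ?_⟩
    rw [chi_c₀ hζ.pow_eq_one ⟨r, hp.1⟩, ((zeroPos_spec.1 ⟨r, hp.1⟩).1 hr).2, pow_zero]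
  have hL : ∀ k, ∀ r ∈ {r | r ∈ sl k}, r < chevE7.nroots ∧ chi chevE7 r (c₀ ζ) = 1 := fun k r hr =>
    hZ r ((stab_inv _ (stab_mem k)).2.1 r hr)
  have hN : ∀ k, Commute (torusHom chevE7 K (c₀ ζ)) (nW cert_E7 K (sw k)) := by
    intro k
    obtain ⟨η, hη⟩ := acts_nW (F := K) fullE7 (sw k)
    refine (Twist.mul_torus_eq hη fun s => ?_).symm
    rw [chi_c₀ hζ.pow_eq_one, chi_c₀ hζ.pow_eq_one, stab_val _ (stab_mem k) s]
  let f : (Σ k : Fin 8, (rootsU chevE7 K {r | r ∈ zeroPos} × chevE7.diagonalSubgroup K) ×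
      rootsU chevE7 K {r | r ∈ sl k}) → cenT ζ := fun x =>
    ⟨⟨(x.2.1.1 : GL chevE7.Idx K) * (nW cert_E7 K (sw x.1) * x.2.1.2) * x.2.2,
      mul_mem (mul_mem (rootsU_le_group cert_E7 _ x.2.1.1.2)
        (mul_mem (monomial_le_group cert_E7 (nW_mem_monomial fullE7 _))
          (diagonal_le_group cert_E7 x.2.1.2.2))) (rootsU_le_group cert_E7 _ x.2.2.2)⟩, by
      rw [mem_cenT]
      refine ((commute_of_mem_rootsU fullE7 hZ x.2.1.1.2).mul_right ((hN _).mul_right ?_)).mul_right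
        (commute_of_mem_rootsU fullE7 (hL _) x.2.2.2)
      obtain ⟨c, hc⟩ := (diagonalSubgroup_eq_range (F := K) fullE7).le x.2.1.2.2
      rw [← hc]
      exact (Commute.all (c₀ ζ) c).map _⟩
  have hZpos : rootsU chevE7 K {r | r ∈ zeroPos} ≤ chevE7.posUnipotent K :=
    rootsU_mono (T := {r | chevE7.IsPosRoot r}) fun r hr => (isClosed_sub fun r hr => hr).pos r hr
  have hf : Function.Bijective f := by
    constructor
    · rintro ⟨k, ⟨u, t⟩, v⟩ ⟨k', ⟨u', t'⟩, v'⟩ e
      have e' := congrArg (fun x : cenT ζ => ((x : ↥(chevE7.group K)) : GL chevE7.Idx K)) e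
      obtain ⟨η, hA⟩ := hact k t t.2
      obtain ⟨η', hA'⟩ := hact k' t' t'.2
      obtain ⟨e1, e2, e3⟩ := canonical_unique fullE7 (hZpos u.2) (hZpos u'.2)
        (Subgroup.mul_mem _ (nW_mem_monomial fullE7 _) (diagonal_le_monomial t.2))
        (Subgroup.mul_mem _ (nW_mem_monomial fullE7 _) (diagonal_le_monomial t'.2)) hA hA'
        (rootsU_mono (sl_subset_invSet k) v.2) (rootsU_mono (sl_subset_invSet k') v'.2) e'
      have hk : k = k' := stabPerm_injective (hA.perm_eq (e2 ▸ hA'))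
      subst hk
      have ht : t = t' := Subtype.ext (mul_left_cancel e2)
      rw [Subtype.ext e1, ht, Subtype.ext e3]
    · rintro ⟨⟨g, hg⟩, hgc⟩
      rw [mem_cenT] at hgc
      set d := torusHom chevE7 K (c₀ ζ) with hd
      obtain ⟨u, hu, n, hn, σ, η, hA, v, hv, rfl⟩ := exists_canonical fullE7 hg
      have hdH : d ∈ chevE7.diagonalSubgroup K := torus_mem_diagonal fullE7 _
      obtain ⟨η', hA'⟩ : ∃ η', Acts cert_E7 (d * n * d⁻¹) σ η' := by
        have := ((acts_torus cert_E7 (c₀ ζ)).mul hA).mul (acts_torus cert_E7 (c₀ ζ)⁻¹)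
        rw [map_inv, ← hd, mul_one, one_mul] at this
        exact ⟨_, this⟩
      have hn' : d * n * d⁻¹ ∈ chevE7.monomialSubgroup K :=
        mul_mem (mul_mem (diagonal_le_monomial hdH) hn) (inv_mem (diagonal_le_monomial hdH))
      obtain ⟨eu, en, ev⟩ := canonical_unique fullE7 (diagonal_conj_rootsU fullE7 _ d hdH u hu) hu hn' hn hA' hA
        (diagonal_conj_rootsU fullE7 _ d hdH v hv) hv
        (by rw [show d * u * d⁻¹ * (d * n * d⁻¹) * (d * v * d⁻¹) = d * (u * n * v) * d⁻¹ by group,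
          hgc.eq, mul_inv_cancel_right])
      have hval : ∀ s : Fin chevE7.nroots, valT.getD (σ s : ℕ) 0 = valT.getD (s : ℕ) 0 := by
        intro s
        refine val_eq_of_chi hζ ?_
        have he := congrArg
          (fun g : GL chevE7.Idx K => (g : Matrix chevE7.Idx chevE7.Idx K) (Sum.inr (σ s)) (Sum.inr s))
          (mul_inv_eq_iff_eq_mul.1 en)
        simp only [hd, Units.val_mul, coe_torusHom, Matrix.diagonal_mul, Matrix.mul_diagonal, hA.col,
          if_true, Sum.elim_inr] at he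
        rw [mul_comm] at he
        exact Units.ext (mul_left_cancel₀ (hA.ne_zero s) he)
      obtain ⟨k, hk⟩ := exists_stab hA hval
      subst hk
      have hu' : u ∈ rootsU chevE7 K {r | r ∈ zeroPos} := by
        refine rootsU_mono ?_ (mem_rootsU_of_commute fullE7 hu (mul_inv_eq_iff_eq_mul.1 eu))
        rintro r ⟨hp, h1⟩
        have hp' := posE7.isPos_iff.1 hp
        refine (zeroPos_spec.1 ⟨r, hp.1⟩).2 ⟨hp'.1, ?_⟩
        rw [chi_c₀ hζ.pow_eq_one ⟨r, hp.1⟩] at h1
        exact hζ.pow_inj (val_lt ⟨r, hp.1⟩) (by norm_num) (h1.trans (pow_zero ζ).symm)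
      have hv' : v ∈ rootsU chevE7 K {r | r ∈ sl k} := by
        set L := (List.range chevE7.nroots).filter
          (fun r => decide (r ∈ (invs (wPerm cert_E7 (sw k))).image Fin.val)) with hL'
        have hset : {r | r ∈ L} = invSet chevE7 (wPerm cert_E7 (sw k)) := by
          rw [invSet_eq_invs]
          ext r
          simp only [hL', Set.mem_setOf_eq, List.mem_filter, List.mem_range, decide_eq_true_eq,
            Finset.mem_coe, and_iff_right_iff_imp, Finset.mem_image]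
          rintro ⟨s, -, rfl⟩
          exact s.isLt
        refine rootsU_mono ?_ (mem_rootsU_of_commute_closed fullE7 (List.Pairwise.filter _ List.pairwise_lt_range)
          (hset ▸ isClosed_invSet fullE7 hA) (hset ▸ hv) (mul_inv_eq_iff_eq_mul.1 ev))
        rintro r ⟨hr, h1⟩
        obtain ⟨hp, s, rfl, hneg⟩ := (hset ▸ hr : r ∈ invSet chevE7 (wPerm cert_E7 (sw k)))
        rw [chi_c₀ hζ.pow_eq_one s] at h1
        have hz : (s : ℕ) ∈ zeroPos := (zeroPos_spec.1 s).2 ⟨(posE7.isPos_iff.1 hp).1,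
          hζ.pow_inj (val_lt s) (by norm_num) (h1.trans (pow_zero ζ).symm)⟩
        exact ((stab_inv _ (stab_mem k)).2.2 s hz).2 (posE7.isNeg_iff.1 hneg)
      have hm : (nW cert_E7 K (sw k))⁻¹ * n ∈ chevE7.diagonalSubgroup K := by
        have hmem : (nW cert_E7 K (sw k))⁻¹ * n ∈ chevE7.monomialSubgroup K :=
          Subgroup.mul_mem _ (Subgroup.inv_mem _ (nW_mem_monomial fullE7 _)) hn
        obtain ⟨τ, θ, hB⟩ := exists_acts fullE7 hmem
        refine mem_diagonal_of_perm fullE7 hmem hB fun i => ?_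
        obtain ⟨η₁, hη₁⟩ := acts_nW (F := K) fullE7 (sw k)
        have h1 := hη₁.mul hB
        rw [mul_inv_cancel_left] at h1
        have h2 := h1.perm_eq hA
        have h3 : τ = 1 := mul_left_cancel (a := wPerm cert_E7 (sw k)) (h2.trans (mul_one _).symm)
        rw [h3]
        exact fullE7.simple_pos i.isLt
      refine ⟨⟨k, (⟨u, hu'⟩, ⟨_, hm⟩), ⟨v, hv'⟩⟩, Subtype.ext (Subtype.ext ?_)⟩
      show u * (nW cert_E7 K (sw k) * ((nW cert_E7 K (sw k))⁻¹ * n)) * v = _
      rw [mul_inv_cancel_left]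
  have hcard : ∀ k, Nat.card ((rootsU chevE7 K {r | r ∈ zeroPos} × chevE7.diagonalSubgroup K) ×
      rootsU chevE7 K {r | r ∈ sl k}) = q ^ 3 * (q - 1) ^ 7 * q ^ (sl k).length := by
    intro k
    rw [Nat.card_prod, Nat.card_prod, card_diagonal_two,
      card_rootsU (F := K) fullE7.toStd zeroPos_spec.2.1 (isClosed_sub fun r hr => hr),
      card_rootsU (F := K) fullE7.toStd (stab_inv _ (stab_mem k)).1 (isClosed_sub (stab_inv _ (stab_mem k)).2.1)]
    rfl
  rw [← Nat.card_eq_of_bijective f hf, Nat.card_sigma, Finset.sum_congr rfl fun k _ => hcard k]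
  have hlens : ∀ k : Fin 8, (sl k).length = ([0, 1, 1, 2, 1, 2, 2, 3] : List ℕ).getD (k : ℕ) 0 := by decide +kernel
  simp only [Fin.sum_univ_eight, hlens, List.getD_cons_zero, List.getD_cons_succ, Fin.val_zero,
    Fin.val_one, Fin.val_two, show ((3 : Fin 8) : ℕ) = 3 from rfl, show ((4 : Fin 8) : ℕ) = 4 from rfl,
    show ((5 : Fin 8) : ℕ) = 5 from rfl, show ((6 : Fin 8) : ℕ) = 6 from rfl,
    show ((7 : Fin 8) : ℕ) = 7 from rfl]
  ring

/-- The index of the torus in the centraliser is prime to five. -/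
theorem five_not_dvd {ζ : Kˣ} (hζ : IsPrimitiveRoot ζ 13) (h5 : 5 ∣ Fintype.card K - 1) :
    ¬ 5 ∣ ((torG K).subgroupOf (cenT ζ)).index := by
  have h1 := ((torG K).subgroupOf (cenT ζ)).card_mul_index
  rw [Nat.card_congr (Subgroup.subgroupOfEquivOfLe (torG_le_cenT ζ)).toEquiv, card_torG, card_cenT hζ] at h1
  have hq : 2 ≤ Fintype.card K := Fintype.one_lt_card
  set q := Fintype.card K
  have h2 : ((torG K).subgroupOf (cenT ζ)).index = q ^ 3 * (1 + q) ^ 3 :=
    Nat.eq_of_mul_eq_mul_left (pow_pos (by omega : 0 < q - 1) 7) (by rw [h1]; ring)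
  rw [h2, Nat.dvd_iff_mod_eq_zero, Nat.mul_mod, Nat.pow_mod, Nat.pow_mod (1 + q), Nat.add_mod]
  have hq5 : q % 5 = 1 := by omega
  rw [hq5]
  norm_num

end CfsgLib.E7Two
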