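import Cfsg.Agent.Lib.Chevalley.Bruhat
import Cfsg.Agent.Lib.Chevalley.CertAll
import Cfsg.Agent.Lib.Chevalley.ExtraData
import Cfsg.Agent.Lib.Chevalley.WeylCount
import Cfsg.Agent.Lib.Chevalley.TorusCard

/-!
Certificates for the torus class of elements of order thirteen in `E₇(2)`: its values at the roots, a Weyl word
doubling them, the eight Weyl elements fixing them and the absence of a common eigen vector modulo five.
-/

set_option autoImplicit false
set_option maxRecDepth 100000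

open Cfsg.Lie CfsgLib.Chevalley

namespace CfsgLib.E7Two

/-- All certificates of E7. -/
theorem fullE7 : Full chevE7 auxE7 := ⟨⟨cert_E7, posE7, by simp⟩, extraE7⟩

/-- The exponents of the torus element. -/
def aExp : List ℕ := [0, 12, 12, 11, 10, 8, 5]

/-- Its values at the roots. -/
def valT : List ℕ := [0, 1, 1, 2, 3, 4, 6, 2, 3, 4, 6, 4, 5, 7, 6, 8, 9, 4, 5, 7, 6, 8, 9, 7, 9, 10, 11, 7, 9, 10, 11, 12, 12, 5, 6, 8, 7, 9, 10, 8, 10, 11, 12, 8, 10, 11, 12, 0, 8, 10, 11, 12, 0, 8, 10, 11, 12, 9, 11, 12, 10, 12, 11, 2, 1, 3, 1, 2, 4, 1, 2, 3, 5, 0, 1, 2, 3, 5, 0, 1, 2, 3, 5, 1, 2, 3, 5, 3, 4, 6, 5, 7, 8, 1, 1, 2, 3, 4, 6, 2, 3, 4, 6, 4, 5, 7, 6, 8, 9, 4, 5, 7, 6, 8, 9, 7, 9, 10, 11, 7, 9, 10, 11, 12, 12, 0]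

theorem val_spec : valT.length = 126 ∧ ∀ s : Fin 126,
    ((∑ k : Fin 7, ((aExp.getD k 0 : ℕ) : ℤ) * chevE7.cartan k s) % 13 = (valT.getD s 0 : ℕ)) := by decide +kernel

/-- A Weyl word doubling the values. -/
def wWord : List (Fin chevE7.rank) := ([3, 1, 4, 3, 1, 2, 0, 5, 4, 3, 2, 6, 5, 4, 3, 4, 5, 6, 1, 3, 4, 5, 2, 3, 4, 0, 2, 3] : List (Fin 7))

theorem val_wWord : ∀ s : Fin chevE7.nroots,
    valT.getD (wPerm cert_E7 wWord s : ℕ) 0 = 2 * valT.getD (s : ℕ) 0 % 13 := by decide +kernel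

theorem wWord_reverse : ∀ s : Fin chevE7.nroots, wPerm cert_E7 wWord (wPerm cert_E7 wWord.reverse s) = s := by
  decide +kernel

/-- Twice the inverse of the Cartan matrix. -/
def invTwo (i k : Fin chevE7.rank) : ℤ := (([[4, 4, 6, 8, 6, 4, 2], [4, 7, 8, 12, 9, 6, 3], [6, 8, 12, 16, 12, 8, 4], [8, 12, 16, 24, 18, 12, 6], [6, 9, 12, 18, 15, 10, 5], [4, 6, 8, 12, 10, 8, 4], [2, 3, 4, 6, 5, 4, 3]] : List (List ℤ)).getD (i : ℕ) []).getD (k : ℕ) 0

theorem invTwo_spec : ∀ i k, ∑ j, cartanMat chevE7 i j * invTwo j k = if i = k then 2 else 0 := by decide +kernel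

/-- The positive roots of value zero. -/
def zeroPos : List ℕ := [73, 78, 125]

theorem zeroPos_spec : (∀ s : Fin chevE7.nroots,
    (s : ℕ) ∈ zeroPos ↔ (63 ≤ (s : ℕ) ∧ valT.getD (s : ℕ) 0 = 0)) ∧ zeroPos.Pairwise (· < ·) ∧
    ∀ r ∈ zeroPos, ∀ s ∈ zeroPos, s ≠ r → chevE7.commTerms r s = [] := by decide +kernel

/-- The Weyl elements fixing the values, with the zero roots they make negative. -/
def stabData : List (List (Fin chevE7.rank) × List ℕ) := ([([], []), ([0, 2, 3, 1, 4, 3, 2, 0, 5, 4, 3, 1, 2, 3, 4, 5, 6, 5, 4, 3, 2, 1, 3, 4, 5, 0, 2, 3, 4, 1, 3, 2, 0], [125]), ([1], [78]), ([1, 0, 2, 3, 1, 4, 3, 2, 0, 5, 4, 3, 1, 2, 3, 4, 5, 6, 5, 4, 3, 2, 1, 3, 4, 5, 0, 2, 3, 4, 1, 3, 2, 0], [78, 125]), ([2], [73]), ([2, 0, 2, 3, 1, 4, 3, 2, 0, 5, 4, 3, 1, 2, 3, 4, 5, 6, 5, 4, 3, 2, 1, 3, 4, 5, 0, 2, 3, 4, 1, 3, 2, 0], [73, 125]), ([2, 1], [73, 78]), ([2, 1, 0, 2, 3, 1, 4, 3, 2, 0, 5, 4, 3, 1, 2, 3, 4, 5, 6, 5, 4, 3, 2, 1,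 3, 4, 5, 0, 2, 3, 4, 1, 3, 2, 0], [73, 78, 125])] : List (List (Fin 7) × List ℕ))

theorem stab_val : ∀ x ∈ stabData, ∀ s : Fin chevE7.nroots,
    valT.getD (wPerm cert_E7 x.1 s : ℕ) 0 = valT.getD (s : ℕ) 0 := by decide +kernel

theorem stab_inv : ∀ x ∈ stabData, x.2.Pairwise (· < ·) ∧ (∀ r ∈ x.2, r ∈ zeroPos) ∧
    ∀ s : Fin chevE7.nroots, (s : ℕ) ∈ zeroPos → ((s : ℕ) ∈ x.2 ↔ (wPerm cert_E7 x.1 s : ℕ) < 63) := by
  decide +kernel

/-- The encoded coordinates of the roots. -/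
def keyT : List ℤ := [(-1020304030202), (-1020304030201), (-1020304020201), (-1020303020201), (-1020203020201), (-1010203020201), (-10203020201), (-1020303020101), (-1020203020101), (-1010203020101), (-10203020101), (-1020202020101), (-1010202020101), (-10202020101), (-1010102020101), (-10102020101), (-102020101), (-1020202010101), (-1010202010101), (-10202010101), (-1010102010101), (-10102010101), (-102010101), (-1010101010101), (-10101010101), (-101010101), (-1010101), (-1010101010001), (-10101010001), (-101010001), (-1010001), (-10001), (-1), (-1020202010100), (-1010202010100), (-10202010100), (-1010102010100), (-10102010100), (-102010100), (-1010101010100), (-10101010100), (-101010100), (-1010100), (-1010101000100), (-10101000100), (-101000100), (-1000100), (-100), (-1010101010000), (-10101010000), (-101010000), (-1010000), (-10000), (-1010101000000), (-10101000000), (-101000000), (-1000000), (-1010100000000), (-10100000000),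 (-100000000), (-1010000000000), (-10000000000), (-1000000000000), 1000000000000, 10000000000, 1010000000000, 100000000, 10100000000, 1010100000000, 1000000, 101000000, 10101000000, 1010101000000, 10000, 1010000, 101010000, 10101010000, 1010101010000, 100, 1000100, 101000100, 10101000100, 1010101000100, 1010100, 101010100, 10101010100, 1010101010100, 102010100, 10102010100, 1010102010100, 10202010100, 1010202010100, 1020202010100, 1, 10001, 1010001, 101010001, 10101010001, 1010101010001, 1010101, 101010101, 10101010101, 1010101010101, 102010101, 10102010101, 1010102010101, 10202010101, 1010202010101, 1020202010101, 102020101, 10102020101, 1010102020101, 10202020101, 1010202020101, 1020202020101, 10203020101, 1010203020101, 1020203020101, 1020303020101, 10203020201, 1010203020201, 1020203020201, 1020303020201, 1020304020201, 1020304030201, 1020304030202]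

theorem key_spec : keyT.length = 126 ∧ keyT.Nodup ∧ ∀ s : Fin 126,
    keyT.getD (s : ℕ) 0 = ∑ j : Fin 7, crd auxE7 (j : ℕ) (s : ℕ) * 100 ^ (j : ℕ) := by decide +kernel

/-- The order in which the fundamental roots are placed. -/
def nodeOrder : List (Fin chevE7.rank) := ([0, 2, 3, 1, 4, 5, 6] : List (Fin 7))

/-- A test: a root and its coordinates on the placed fundamental roots. -/
abbrev RootTest : Type := ℕ × List ℤ

/-- The levels of the search. -/
def levels : List (ℕ × List RootTest) := [(1, [(93, [1])]), (0, [(73, [0, 1]), (94, [1, 1])]), (1, [(69, [0, 0, 1]), (74, [0, 1, 1]), (95, [1, 1, 1])]), (0, [(78, [0, 0, 0, 1]), (79, [0, 0, 1, 1]), (83, [0, 1, 1, 1])]), (1, [(66, [0, 0, 0, 0, 1]), (70, [0, 0, 1, 0, 1]), (75, [0, 1, 1, 0, 1]), (80, [0, 0, 1, 1, 1])]), (1, [(64, [0, 0, 0, 0, 0, 1]), (67, [0, 0, 0, 0, 1, 1]), (71, [0, 0, 1, 0, 1, 1])]), (2, [(63, [0, 0, 0, 0, 0, 0, 1]), (65, [0, 0, 0, 0, 0, 1, 1]), (68,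 [0, 0, 0, 0, 1, 1, 1])])]

/-- The keys of the images of the fundamental roots under the eight elements. -/
def finals : List (List ℤ) := [[1, 10000, 1000000, 100, 100000000, 10000000000, 1000000000000], [(-1020304030201), 10000, 1000000, 100, 100000000, 10000000000, 1000000000000], [1, 10000, 1000100, (-100), 100000000, 10000000000, 1000000000000], [(-1020304030201), 10000, 1000100, (-100), 100000000, 10000000000, 1000000000000], [10001, (-10000), 1010000, 100, 100000000, 10000000000, 1000000000000], [(-1020304020201), (-10000), 1010000, 100, 100000000, 10000000000, 1000000000000], [10001, (-10000), 1010100, (-100), 100000000, 10000000000, 1000000000000], [(-1020304020201), (-10000), 1010100, (-100), 100000000, 10000000000, 1000000000000]]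

/-- The coordinates of a root test agree. -/
theorem levels_spec : levels.length = 7 ∧ ∀ k : Fin 7,
    (levels.getD k (0, [])).1 = valT.getD (chevE7.simple (nodeOrder.getD k (⟨0, by decide⟩ : Fin chevE7.rank) : ℕ)) 0 ∧
      ∀ t ∈ (levels.getD k (0, [])).2, t.1 < 126 ∧ t.2.length = (k : ℕ) + 1 ∧
        ∀ j : Fin chevE7.rank, crd auxE7 (j : ℕ) t.1 =
          ((List.zip t.2 (nodeOrder.take ((k : ℕ) + 1))).map fun p => if p.2 = j then p.1 else 0).sum := by
  decide +kernel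

theorem finals_spec : finals = stabData.map fun x => nodeOrder.map fun i =>
    keyT.getD (wPerm cert_E7 x.1 (smp cert_E7 i) : ℕ) 0 := by decide +kernel

/-- The value combination. -/
def dotKey : List ℤ → List ℤ → ℤ
  | a :: as, b :: bs => a * b + dotKey as bs
  | _, _ => 0

/-- A root test on placed keys. -/
def testB (ks : List ℤ) (t : RootTest) : Bool :=
  let i := keyT.idxOf (dotKey t.2 ks)
  Nat.blt i 126 && valT.getD i 0 == valT.getD t.1 0

/-- The search. -/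
def searchB : List (ℕ × List RootTest) → List ℤ → Bool
  | [], ks => finals.contains ks
  | lv :: rest, ks => (List.range 126).all fun r =>
      !(valT.getD r 0 == lv.1) || !(lv.2.all (testB (ks ++ [keyT.getD r 0]))) || searchB rest (ks ++ [keyT.getD r 0])

theorem search_ok : searchB levels [] = true := by decide +kernel

/-- For each of the eight elements `τ` a left inverse of `2 w⁻¹ τ - 1` modulo five. -/
def leftInv : List (List (List ℕ)) := [[[2, 3, 4, 2, 1, 4, 0], [4, 2, 2, 3, 1, 4, 2], [2, 4, 1, 4, 3, 2, 1], [2, 3, 2, 1, 2, 3, 2], [0, 4, 4, 3, 1, 3, 2], [0, 4, 4, 3, 0, 2, 2], [0, 3, 3, 1, 0, 4, 3]], [[4, 4, 0, 1, 4, 1, 1], [3, 4, 4, 1, 2, 3, 4], [4, 0, 2, 3, 1, 4, 2], [4, 4, 3, 0, 0, 0, 3], [0, 4, 4, 3, 1, 3, 2], [0, 4, 4, 3, 0, 2, 2], [0, 3, 3, 1, 0, 4, 3]], [[4, 2, 0, 1, 4, 1, 1], [2, 3, 1, 4, 3, 2, 1], [4, 3, 2, 3, 1, 4, 2], [2, 3, 2, 1, 2, 3, 2], [0, 4, 4, 3, 1, 3, 2], [0, 4, 4, 3, 0, 2, 2], [0, 3, 3, 1,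 0, 4, 3]], [[2, 4, 4, 2, 1, 4, 0], [1, 4, 3, 2, 4, 1, 3], [2, 0, 1, 4, 3, 2, 1], [1, 4, 4, 4, 3, 2, 4], [0, 4, 4, 3, 1, 3, 2], [0, 4, 4, 3, 0, 2, 2], [0, 3, 3, 1, 0, 4, 3]], [[3, 0, 0, 4, 0, 0, 3], [2, 3, 0, 4, 3, 2, 1], [1, 2, 0, 2, 4, 1, 3], [1, 1, 1, 4, 3, 2, 4], [0, 4, 4, 3, 1, 3, 2], [0, 4, 4, 3, 0, 2, 2], [0, 3, 3, 1, 0, 4, 3]], [[4, 4, 0, 1, 4, 1, 1], [1, 4, 0, 2, 4, 1, 3], [3, 0, 0, 1, 2, 3, 4], [3, 4, 1, 3, 1, 4, 0], [0, 4, 4, 3, 1, 3, 2], [0, 4, 4, 3, 0, 2, 2], [0, 3, 3, 1, 0, 4, 3]], [[4, 2, 0, 1, 4, 1, 1], [4, 2, 0, 3, 1, 4, 2], [3, 1, 0, 1, 2, 3, 4], [4, 2, 1, 0, 0, 0, 3], [0, 4, 4, 3, 1, 3, 2], [0, 4, 4, 3, 0, 2, 2], [0, 3, 3, 1, 0, 4, 3]], [[3, 4, 0, 4, 0, 0, 3], [3, 4, 0, 1, 2, 3, 4], [1, 0, 0, 2, 4, 1, 3], [3, 4, 1, 3, 1, 4, 0], [0, 4, 4, 3, 1, 3, 2], [0, 4, 4, 3, 0, 2, 2], [0, 3, 3, 1, 0, 4, 3]]]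

theorem leftInv_spec : ∀ k : Fin 8, ∀ i j : Fin 7,
    ((∑ m : Fin 7, (((leftInv.getD k []).getD i []).getD m 0 : ℕ) *
      (2 * crd auxE7 (j : ℕ) (wPerm cert_E7 wWord.reverse (wPerm cert_E7 (stabData.getD k ([], [])).1 (smp cert_E7 m)) : ℕ) -
        (if m = j then 1 else 0))) : ℤ) % 5 = if i = j then 1 else 0 := by decide +kernel

end CfsgLib.E7Two
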