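import Cfsg.Agent.Lib.E7Two.Data

/-! The Weyl elements fixing the values of the torus element of order thirteen are the eight listed ones. -/

set_option autoImplicit false
set_option maxRecDepth 100000

open Cfsg.Lie CfsgLib.Chevalley

namespace CfsgLib.E7Two

theorem key_crd (s : Fin chevE7.nroots) :
    keyT.getD (s : ℕ) 0 = ∑ j : Fin chevE7.rank, crd auxE7 (j : ℕ) (s : ℕ) * 100 ^ (j : ℕ) :=
  key_spec.2.2 s

theorem key_injective {s u : Fin chevE7.nroots} (h : keyT.getD (s : ℕ) 0 = keyT.getD (u : ℕ) 0) : s = u := by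
  have hs : (s : ℕ) < keyT.length := by rw [key_spec.1]; exact s.isLt
  have hu : (u : ℕ) < keyT.length := by rw [key_spec.1]; exact u.isLt
  rw [List.getD_eq_getElem _ _ hs, List.getD_eq_getElem _ _ hu] at h
  exact Fin.ext ((List.Nodup.getElem_inj_iff key_spec.2.1).1 h)

theorem key_lin {K : Type*} [Field K] {g : GL chevE7.Idx K} {σ : Equiv.Perm (Fin chevE7.nroots)}
    {η : Fin chevE7.nroots → K} (hA : Acts cert_E7 g σ η) (s : Fin chevE7.nroots) :
    keyT.getD (σ s : ℕ) 0 =
      ∑ j : Fin chevE7.rank, crd auxE7 (j : ℕ) (s : ℕ) * keyT.getD (σ (smp cert_E7 j) : ℕ) 0 := by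
  simp only [key_crd, Finset.mul_sum]
  rw [Finset.sum_comm]
  refine Finset.sum_congr rfl fun i _ => ?_
  rw [hA.lin i i.isLt s, Finset.sum_mul]
  exact Finset.sum_congr rfl fun j _ => by ring

/-- A combination supported by placed roots. -/
theorem dotKey_eq (f : Fin chevE7.rank → ℤ) : ∀ (as : List ℤ) (ls : List (Fin chevE7.rank)),
    dotKey as (ls.map f) =
      ∑ j : Fin chevE7.rank, ((List.zip as ls).map fun p => if p.2 = j then p.1 else 0).sum * f j
  | [], ls => by cases ls <;> simp [dotKey]
  | a :: as, [] => by simp [dotKey]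
  | a :: as, i :: ls => by
    simp only [List.map_cons, dotKey, dotKey_eq f as ls, List.zip_cons_cons, List.sum_cons, add_mul,
      Finset.sum_add_distrib, ite_mul, zero_mul, Finset.sum_ite_eq, Finset.mem_univ, if_true]

theorem getElem?_map_take {α β : Type*} (f : α → β) (l : List α) (k : ℕ) (d : α) (hk : k < l.length) :
    (l.map f).take k ++ [f (l.getD k d)] = (l.map f).take (k + 1) := by
  rw [List.take_add_one, List.getElem?_eq_getElem (by simpa using hk), List.getElem_map,
    List.getD_eq_getElem _ _ hk]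
  rfl

variable {K : Type*} [Field K] {g : GL chevE7.Idx K} {σ : Equiv.Perm (Fin chevE7.nroots)}
  {η : Fin chevE7.nroots → K}

theorem search_step (hA : Acts cert_E7 g σ η)
    (hv : ∀ s : Fin chevE7.nroots, valT.getD (σ s : ℕ) 0 = valT.getD (s : ℕ) 0) :
    ∀ (n k : ℕ), k + n = 7 →
      searchB (levels.drop k) ((nodeOrder.map fun i => keyT.getD (σ (smp cert_E7 i) : ℕ) 0).take k) = true →
      (nodeOrder.map fun i => keyT.getD (σ (smp cert_E7 i) : ℕ) 0) ∈ finals := by
  have hlen : nodeOrder.length = 7 := rfl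
  intro n
  induction n with
  | zero =>
    intro k hk h
    have hk7 : k = 7 := by omega
    subst hk7
    rw [List.drop_of_length_le levels_spec.1.le, List.take_of_length_le (by rw [List.length_map, hlen]), searchB] at h
    exact List.contains_iff_mem.1 h
  | succ n ih =>
    intro k hk h
    have hk7 : k < 7 := by omega
    refine ih (k + 1) (by omega) ?_
    set d : Fin chevE7.rank := (⟨0, by decide⟩ : Fin chevE7.rank)
    set i₀ := nodeOrder.getD k d with hi₀
    set r := σ (smp cert_E7 i₀) with hr
    rw [List.drop_eq_getElem_cons (by rw [levels_spec.1]; omega), searchB, List.all_eq_true] at h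
    have h1 := h (r : ℕ) (List.mem_range.2 r.isLt)
    obtain ⟨hval, htests⟩ := levels_spec.2 ⟨k, hk7⟩
    have hget : levels.getD k (0, []) = levels[k]'(by rw [levels_spec.1]; omega) :=
      List.getD_eq_getElem _ _ _
    simp only [hget] at hval htests
    have hseq := getElem?_map_take (fun i => keyT.getD (σ (smp cert_E7 i) : ℕ) 0) nodeOrder k d (by omega)
    rw [← hi₀, ← hr] at hseq
    rw [hseq] at h1
    have e1 : valT.getD (r : ℕ) 0 = (levels[k]'(by rw [levels_spec.1]; omega)).1 := by
      rw [hval, hr, hv]; rfl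
    have e2 : (levels[k]'(by rw [levels_spec.1]; omega)).2.all
        (testB ((nodeOrder.map fun i => keyT.getD (σ (smp cert_E7 i) : ℕ) 0).take (k + 1))) = true := by
      rw [List.all_eq_true]
      intro t ht
      obtain ⟨ht1, -, htc⟩ := htests t ht
      let st : Fin chevE7.nroots := ⟨t.1, ht1⟩
      have hdot : dotKey t.2 ((nodeOrder.map fun i => keyT.getD (σ (smp cert_E7 i) : ℕ) 0).take (k + 1)) =
          keyT.getD (σ st : ℕ) 0 := by
        rw [← List.map_take, dotKey_eq, key_lin hA st]
        exact Finset.sum_congr rfl fun j _ => by rw [htc j]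
      have hidx : keyT.idxOf (keyT.getD (σ st : ℕ) 0) = (σ st : ℕ) := by
        have hlt : (σ st : ℕ) < keyT.length := by rw [key_spec.1]; exact (σ st).isLt
        rw [List.getD_eq_getElem _ _ hlt, key_spec.2.1.idxOf_getElem]
      simp only [testB, hdot, hidx, Bool.and_eq_true, Nat.blt_eq, beq_iff_eq]
      exact ⟨(σ st).isLt, hv st⟩
    rw [e1, e2] at h1
    simpa using h1

/-- A permutation by a monomial element fixing the values is one of the eight. -/
theorem exists_stab (hA : Acts cert_E7 g σ η)
    (hv : ∀ s : Fin chevE7.nroots, valT.getD (σ s : ℕ) 0 = valT.getD (s : ℕ) 0) :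
    ∃ k : Fin 8, σ = wPerm cert_E7 (stabData.getD (k : ℕ) ([], [])).1 := by
  have h := search_step hA hv 7 0 rfl search_ok
  rw [finals_spec, List.mem_map] at h
  obtain ⟨x, hx, he⟩ := h
  obtain ⟨k, hk, rfl⟩ := List.getElem_of_mem hx
  have hlen : stabData.length = 8 := rfl
  refine ⟨⟨k, hlen ▸ hk⟩, Equiv.ext fun s => key_injective ?_⟩
  rw [List.getD_eq_getElem _ _ hk]
  obtain ⟨η', hA'⟩ := acts_nW (F := K) fullE7 stabData[k].1
  rw [key_lin hA s, key_lin hA' s]
  refine Finset.sum_congr rfl fun j _ => ?_
  have hj : j ∈ nodeOrder := by revert j; decide +kernel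
  rw [List.map_inj_left.1 he j hj]

theorem stabPerm_injective :
    Function.Injective fun k : Fin 8 => wPerm cert_E7 (stabData.getD (k : ℕ) ([], [])).1 := by
  intro a b h
  have hlen : stabData.length = 8 := rfl
  have hnd : finals.Nodup := by decide +kernel
  have ha : (a : ℕ) < finals.length := by rw [finals_spec, List.length_map, hlen]; exact a.isLt
  have hb : (b : ℕ) < finals.length := by rw [finals_spec, List.length_map, hlen]; exact b.isLt
  have ha' : (a : ℕ) < stabData.length := by rw [hlen]; exact a.isLt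
  have hb' : (b : ℕ) < stabData.length := by rw [hlen]; exact b.isLt
  refine Fin.ext ((hnd.getElem_inj_iff (hi := ha) (hj := hb)).1 ?_)
  simp only [finals_spec, List.getElem_map]
  simp only [List.getD_eq_getElem _ _ ha', List.getD_eq_getElem _ _ hb'] at h
  rw [h]

end CfsgLib.E7Two
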